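import Mathlib.RingTheory.HopfAlgebra.Convolution
import Mathlib.RingTheory.HopfAlgebra.TensorProduct
import Mathlib.RingTheory.Norm.Basic
import Mathlib.RingTheory.Spectrum.Prime.FreeLocus
import Mathlib.RingTheory.Localization.BaseChange
import Mathlib.RingTheory.LocalProperties.Submodule
import Mathlib.RingTheory.LocalRing.Module
import Groth.Agent.FinHopf.Power

/-!
# Deligne's theorem: a commutative finite locally free group scheme is killed by its order
-/

open scoped TensorProduct
open WithConv

namespace Groth.Agent.HopfLib

section Free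

variable {R : Type*} [CommRing R] {A : Type*} [CommRing A] [HopfAlgebra R A]
  [Coalgebra.IsCocomm R A] {B : Type*} [CommRing B] [Algebra R B]

/-- If `B ⊗ A` has a `B`-basis indexed by `ι`, every `B`-point is killed by `card ι`. -/
theorem convPow_card_eq_one {ι : Type*} [Fintype ι] (b : Module.Basis ι B (B ⊗[R] A))
    (g : WithConv (A →ₐ[R] B)) : g ^ Fintype.card ι = 1 := by
  classical
  let T := B ⊗[R] A
  let inl : B →ₐ[R] T := Algebra.TensorProduct.includeLeft
  let u : WithConv (A →ₐ[R] T) := toConv Algebra.TensorProduct.includeRight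
  let pl : WithConv (A →ₐ[R] B) →* WithConv (A →ₐ[R] T) := FinHopf.postComp inl
  let φ : WithConv (A →ₗ[R] B) →+* WithConv (A →ₗ[R] T) :=
    { toFun := fun f => toConv (inl.toLinearMap ∘ₗ f.ofConv)
      map_one' := by
        apply WithConv.ofConv_injective
        ext a
        exact inl.commutes _
      map_mul' := fun f f' => WithConv.ofConv_injective
        (LinearMap.algHom_comp_convMul_distrib inl f f')
      map_zero' := by
        apply WithConv.ofConv_injective
        ext a
        simp
      map_add' := fun f f' => by
        apply WithConv.ofConv_injective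
        ext a
        simp }
  letI : Algebra (WithConv (A →ₗ[R] B)) (WithConv (A →ₗ[R] T)) := φ.toAlgebra
  let η : ι → WithConv (A →ₗ[R] T) := fun i =>
    toConv (LinearMap.toSpanSingleton R T (b i) ∘ₗ Coalgebra.counit)
  have hη : ∀ (c : WithConv (A →ₗ[R] B)) (i : ι) (x : A), (φ c * η i) x = c x • b i := by
    intro c i x
    rw [LinearMap.convMul_apply]
    have key : ∀ z : A ⊗[R] A, LinearMap.mul' R T (TensorProduct.map (φ c).ofConv (η i).ofConv z) =
        c (TensorProduct.rid R A (LinearMap.lTensor A (Coalgebra.counit (R := R)) z)) • b i := by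
      intro z
      induction z using TensorProduct.induction_on with
      | zero => simp
      | add v w hv hw => simp only [map_add, hv, hw, add_smul]
      | tmul v w =>
        simp only [φ, η, inl, TensorProduct.map_tmul, LinearMap.mul'_apply, RingHom.coe_mk, MonoidHom.coe_mk,
          OneHom.coe_mk, ofConv_toConv, LinearMap.comp_apply, LinearMap.lTensor_tmul,
          TensorProduct.rid_tmul, LinearMap.toSpanSingleton_apply, map_smul, mul_smul_comm,
          smul_assoc, AlgHom.toLinearMap_apply, Algebra.TensorProduct.includeLeft_apply]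
        congr 1
        rw [Algebra.smul_def (c.ofConv v), Algebra.TensorProduct.algebraMap_apply,
          Algebra.algebraMap_self_apply]
        rfl
    rw [key, Coalgebra.lTensor_counit_comul]
    simp
  let Φ : (ι → WithConv (A →ₗ[R] B)) ≃ₗ[WithConv (A →ₗ[R] B)] WithConv (A →ₗ[R] T) :=
    LinearEquiv.ofBijective
      { toFun := fun v => ∑ i, φ (v i) * η i
        map_add' := fun v w => by simp [add_mul, Finset.sum_add_distrib]
        map_smul' := fun c v => by
          simp [Algebra.smul_def, RingHom.algebraMap_toAlgebra, Finset.mul_sum, mul_assoc] } (by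
      have hx : ∀ (v : ι → WithConv (A →ₗ[R] B)) (x : A),
          (∑ i, φ (v i) * η i).ofConv x = b.equivFun.symm (fun i => v i x) := by
        intro v x
        rw [WithConv.ofConv_sum, LinearMap.sum_apply, Module.Basis.equivFun_symm_apply]
        exact Finset.sum_congr rfl fun i _ => hη _ _ _
      refine ⟨fun v w h => ?_, fun h => ?_⟩
      · funext i
        apply WithConv.ofConv_injective
        ext x
        have := congrArg (fun F : WithConv (A →ₗ[R] T) => F.ofConv x) h
        simp only [LinearMap.coe_mk, AddHom.coe_mk, hx] at this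
        exact congr_fun (b.equivFun.symm.injective this) i
      · refine ⟨fun i => toConv (((b.coord i).restrictScalars R) ∘ₗ h.ofConv), ?_⟩
        apply WithConv.ofConv_injective
        ext x
        simp only [LinearMap.coe_mk, AddHom.coe_mk, hx]
        exact b.equivFun.symm_apply_apply _)
  let bM : Module.Basis ι (WithConv (A →ₗ[R] B)) (WithConv (A →ₗ[R] T)) :=
    Module.Basis.ofEquivFun Φ.symm
  let τ : WithConv (A →ₐ[R] B) → (T →ₐ[B] T) := fun h =>
    Algebra.TensorProduct.lift (Algebra.ofId B T) (pl h * u).ofConv (fun _ _ => Commute.all _ _)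
  have hτl : ∀ h h', FinHopf.postComp (C := A) ((τ h).restrictScalars R) (pl h') = pl h' := fun h h' => by
    apply WithConv.ofConv_injective
    ext a
    simp [τ, pl, inl, T]
  have hτu : ∀ h, FinHopf.postComp (C := A) ((τ h).restrictScalars R) u = pl h * u := fun h => by
    apply WithConv.ofConv_injective
    ext a
    show (τ h) ((1 : B) ⊗ₜ[R] a) = _
    simp only [τ]
    exact (Algebra.TensorProduct.lift_tmul _ _ _ _ _).trans (by rw [map_one, one_mul])
  have hτ : ∀ h h', h * h' = 1 → (τ h).comp (τ h') = AlgHom.id B T := by
    intro h h' e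
    apply Algebra.TensorProduct.ext
    · exact Subsingleton.elim _ _
    · have h1 : FinHopf.postComp (C := A) ((τ h).restrictScalars R)
          (FinHopf.postComp (C := A) ((τ h').restrictScalars R) u) = u := by
        rw [hτu, map_mul, hτl, hτu, ← mul_assoc, ← map_mul, mul_comm h', e, map_one, one_mul]
      exact congrArg WithConv.ofConv h1
  have hinv : ∀ {X : Type _} [CommRing X] [Algebra R X] (f : WithConv (A →ₐ[R] X)),
      toConv (f.ofConv.comp (HopfAlgebra.antipodeAlgHom R A)) * f = 1 := by
    intro X _ _ f
    have e := congrArg (FinHopf.postComp (C := A) f.ofConv) (AlgHom.antipode_id_cancel (R := R) (A := A))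
    rw [map_mul, map_one] at e
    exact e
  let g' : WithConv (A →ₐ[R] B) := toConv (g.ofConv.comp (HopfAlgebra.antipodeAlgHom R A))
  have hg : g' * g = 1 := by
    have e := congrArg (FinHopf.postComp (C := A) g.ofConv) (AlgHom.antipode_id_cancel (R := R) (A := A))
    rw [map_mul, map_one] at e
    exact e
  let τe : T ≃ₐ[B] T := AlgEquiv.ofAlgHom (τ g) (τ g') (hτ _ _ (mul_comm g g' ▸ hg))
    (hτ _ _ hg)
  let σ : WithConv (A →ₗ[R] T) ≃ₐ[WithConv (A →ₗ[R] B)] WithConv (A →ₗ[R] T) :=
    { toFun := fun f => toConv (((τe : T →ₐ[B] T).restrictScalars R).toLinearMap ∘ₗ f.ofConv)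
      invFun := fun f => toConv (((τe.symm : T →ₐ[B] T).restrictScalars R).toLinearMap ∘ₗ f.ofConv)
      left_inv := fun f => by
        apply WithConv.ofConv_injective
        ext a
        exact τe.symm_apply_apply _
      right_inv := fun f => by
        apply WithConv.ofConv_injective
        ext a
        exact τe.apply_symm_apply _
      map_mul' := fun f f' => WithConv.ofConv_injective
        (LinearMap.algHom_comp_convMul_distrib _ f f')
      map_add' := fun f f' => by
        apply WithConv.ofConv_injective
        ext a
        exact map_add τe _ _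
      commutes' := fun c => by
        apply WithConv.ofConv_injective
        ext a
        show τe (c a ⊗ₜ[R] 1) = c a ⊗ₜ[R] 1
        have := τe.commutes (c a)
        rwa [Algebra.TensorProduct.algebraMap_apply, Algebra.algebraMap_self_apply] at this }
  let L : WithConv (A →ₐ[R] T) →* WithConv (A →ₗ[R] T) :=
    { toFun := fun f => toConv f.ofConv.toLinearMap, map_one' := rfl, map_mul' := fun _ _ => rfl }
  let L₀ : WithConv (A →ₐ[R] B) →* WithConv (A →ₗ[R] B) :=
    { toFun := fun f => toConv f.ofConv.toLinearMap, map_one' := rfl, map_mul' := fun _ _ => rfl }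
  have hσ : σ (L u) = algebraMap _ _ (L₀ g) * L u := by
    have : L (FinHopf.postComp (C := A) ((τ g).restrictScalars R) u) = L (pl g * u) := by rw [hτu]
    rw [map_mul] at this
    exact this
  have hN := Algebra.norm_eq_of_algEquiv σ (L u)
  rw [hσ, map_mul, Algebra.norm_algebraMap_of_basis bM] at hN
  have hu : IsUnit (Algebra.norm (WithConv (A →ₗ[R] B)) (L u)) :=
    (IsUnit.map L (IsUnit.of_mul_eq_one_right _ (hinv u))).map _
  have h1 : L₀ (g ^ Fintype.card ι) = L₀ 1 := by
    rw [map_pow, map_one]
    exact (IsUnit.mul_eq_right hu).1 hN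
  apply WithConv.ofConv_injective
  apply AlgHom.toLinearMap_injective
  exact congrArg WithConv.ofConv h1

end Free

section Projective

variable {R : Type*} [CommRing R] {A : Type*} [CommRing A] [HopfAlgebra R A]
  [Coalgebra.IsCocomm R A] [Module.Finite R A] [Module.Projective R A]

/-- Deligne's theorem over an arbitrary base ring. -/
theorem convPow_id_eq_one (n : ℕ) (hn : ∀ q : PrimeSpectrum R, Module.rankAtStalk A q = n) :
    toConv (AlgHom.id R A) ^ n = 1 := by
  apply WithConv.ofConv_injective
  ext a
  refine Module.eq_of_localization_maximal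
    (fun P _ => Localization.AtPrime P ⊗[R] A)
    (fun P _ => TensorProduct.mk R (Localization.AtPrime P) A 1) _ _ fun P hP => ?_
  set S := Localization.AtPrime P
  have hfin : Module.finrank S (S ⊗[R] A) = n := by
    rw [← Module.rankAtStalk_eq_finrank_tensorProduct ⟨P, hP.isPrime⟩]
    exact hn _
  have : Module.Free S (S ⊗[R] A) := Module.free_of_flat_of_isLocalRing
  let e := Module.finBasisOfFinrankEq S (S ⊗[R] A) hfin
  let b : Module.Basis (Fin n) (S ⊗[R] A) ((S ⊗[R] A) ⊗[R] A) :=
    (Algebra.TensorProduct.basis (S ⊗[R] A) e).map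
      (TensorProduct.AlgebraTensorModule.cancelBaseChange R S (S ⊗[R] A) (S ⊗[R] A) A)
  have h := convPow_card_eq_one b (toConv Algebra.TensorProduct.includeRight)
  rw [Fintype.card_fin] at h
  have e1 : FinHopf.postComp (C := A) (Algebra.TensorProduct.includeRight : A →ₐ[R] S ⊗[R] A)
      (toConv (AlgHom.id R A)) = toConv Algebra.TensorProduct.includeRight :=
    congrArg toConv (AlgHom.comp_id _)
  rw [← e1] at h
  replace h := ((FinHopf.postComp (C := A)
    (Algebra.TensorProduct.includeRight : A →ₐ[R] S ⊗[R] A)).map_pow _ n).trans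
    (h.trans (map_one (FinHopf.postComp (C := A)
      (Algebra.TensorProduct.includeRight : A →ₐ[R] S ⊗[R] A))).symm)
  exact DFunLike.congr_fun (congrArg WithConv.ofConv h) a

end Projective

end Groth.Agent.HopfLib
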