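import Groth.Agent.FinHopf.Power

/-!
# Algebraic identities for the antipode of a commutative Hopf algebra
-/

universe u v

open scoped TensorProduct
open WithConv

namespace Groth.Agent.HopfLib

variable {k : Type u} [CommRing k] {A : Type v} [CommRing A] [HopfAlgebra k A]

open Groth.Agent.FinHopf (postComp)

theorem id_inv : (toConv (AlgHom.id k A))⁻¹ = toConv (HopfAlgebra.antipodeAlgHom k A) := by
  apply WithConv.ofConv_injective
  ext a
  rfl

theorem antipode_antipode (a : A) :
    HopfAlgebraStruct.antipode k (HopfAlgebraStruct.antipode k a) = a := by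
  let S := HopfAlgebra.antipodeAlgHom k A
  have h := map_inv (postComp (C := A) S) (toConv (AlgHom.id k A))
  rw [id_inv] at h
  have h2 : postComp (C := A) S (toConv (AlgHom.id k A)) = (toConv (AlgHom.id k A))⁻¹ := by
    rw [id_inv]
    apply WithConv.ofConv_injective
    ext c
    rfl
  rw [h2, inv_inv] at h
  exact DFunLike.congr_fun (congrArg WithConv.ofConv h) a

theorem incl_mul_incl :
    toConv (Algebra.TensorProduct.includeLeft : A →ₐ[k] A ⊗[k] A) *
      toConv Algebra.TensorProduct.includeRight = toConv (Bialgebra.comulAlgHom k A) := by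
  apply WithConv.ofConv_injective
  ext a
  show (toConv (Algebra.TensorProduct.includeLeft : A →ₐ[k] A ⊗[k] A) *
      toConv Algebra.TensorProduct.includeRight : WithConv (A →ₐ[k] A ⊗[k] A)) a = _
  rw [AlgHom.convMul_apply]
  show Algebra.TensorProduct.lift _ _ _ (Coalgebra.comul a) = Coalgebra.comul a
  induction Coalgebra.comul (R := k) a using TensorProduct.induction_on with
  | zero => simp
  | add u w hu hw => simp only [map_add, hu, hw]
  | tmul x y => simp

/-- The antipode is an anticoalgebra map. -/
theorem comul_antipode (a : A) :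
    Coalgebra.comul (R := k) (HopfAlgebraStruct.antipode k a) =
      TensorProduct.map (HopfAlgebraStruct.antipode k) (HopfAlgebraStruct.antipode k)
        (TensorProduct.comm k A A (Coalgebra.comul (R := k) a)) := by
  let iL : A →ₐ[k] A ⊗[k] A := Algebra.TensorProduct.includeLeft
  let iR : A →ₐ[k] A ⊗[k] A := Algebra.TensorProduct.includeRight
  let S := HopfAlgebra.antipodeAlgHom k A
  have hcomp : ∀ (g : A →ₐ[k] A ⊗[k] A) (f : A →ₐ[k] A), toConv (g.comp f) = postComp g (toConv f) :=
    fun _ _ => rfl
  have hinv : ∀ g : A →ₐ[k] A ⊗[k] A, toConv g * toConv (g.comp S) = 1 ∧ toConv (g.comp S) * toConv g = 1 := by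
    intro g
    have h1 : (toConv (AlgHom.id k A)) * (toConv (AlgHom.id k A))⁻¹ = 1 := mul_inv_cancel _
    have h2 : (toConv (AlgHom.id k A))⁻¹ * toConv (AlgHom.id k A) = 1 := inv_mul_cancel _
    rw [id_inv] at h1 h2
    have e : toConv g = postComp g (toConv (AlgHom.id k A)) := by
      apply WithConv.ofConv_injective
      ext c
      rfl
    rw [e, hcomp, ← map_mul, ← map_mul, h1, h2, map_one]
    exact ⟨rfl, rfl⟩
  have h : toConv ((Bialgebra.comulAlgHom k A).comp S) = toConv (iR.comp S) * toConv (iL.comp S) := by
    refine left_inv_eq_right_inv (hinv _).2 ?_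
    rw [← incl_mul_incl, mul_assoc, ← mul_assoc (toConv Algebra.TensorProduct.includeRight),
      (hinv iR).1, one_mul, (hinv iL).1]
  have h3 := DFunLike.congr_fun (congrArg WithConv.ofConv h) a
  refine h3.trans ?_
  rw [AlgHom.convMul_apply]
  show Algebra.TensorProduct.lift _ _ _ (Coalgebra.comul (R := k) a) = _
  induction Coalgebra.comul (R := k) a using TensorProduct.induction_on with
  | zero => simp
  | add u w hu hw => simp only [map_add, hu, hw]
  | tmul x y =>
    show ((1 : A) ⊗ₜ[k] HopfAlgebraStruct.antipode k x) * (HopfAlgebraStruct.antipode k y ⊗ₜ[k] (1 : A)) = _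
    simp

end Groth.Agent.HopfLib
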