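import Mathlib.RingTheory.Nullstellensatz
import Mathlib.RingTheory.Jacobson.Ring
import Mathlib.RingTheory.Ideal.KrullsHeightTheorem
import Mathlib.RingTheory.Polynomial.Basic
import Mathlib.RingTheory.FiniteType
import Mathlib.RingTheory.MvPolynomial.Ideal

/-!
# A rank-one point on few linear sections of the Segre cone
-/

noncomputable section

universe u

open MvPolynomial

namespace Groth.Agent.HopfLib

variable (k : Type u) [Field k] (a b : ℕ)

/-- The Segre map on polynomial rings. -/
def segre : MvPolynomial (Fin a × Fin b) k →ₐ[k] MvPolynomial (Fin a ⊕ Fin b) k :=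
  aeval fun ij => X (Sum.inl ij.1) * X (Sum.inr ij.2)

/-- The coordinate ring of the Segre cone. -/
abbrev Cone := (segre k a b).range

/-- The coordinate functions on the Segre cone. -/
def coord : MvPolynomial (Fin a × Fin b) k →ₐ[k] Cone k a b := (segre k a b).rangeRestrict

lemma coord_surjective : Function.Surjective (coord k a b) :=
  (segre k a b).rangeRestrict_surjective

/-- Killing the variables from `c`, resp. `d`, on. -/
def kill (c d : ℕ) : MvPolynomial (Fin a ⊕ Fin b) k →ₐ[k] MvPolynomial (Fin a ⊕ Fin b) k :=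
  aeval (Sum.elim (fun i => if i.1 < c then X (Sum.inl i) else 0)
    (fun j => if j.1 < d then X (Sum.inr j) else 0))

lemma kill_kill {c c' d d' : ℕ} (hc : c' ≤ c) (hd : d' ≤ d) :
    (kill k a b c' d').comp (kill k a b c d) = kill k a b c' d' := by
  refine algHom_ext fun s => ?_
  rcases s with i | j
  · simp only [kill, AlgHom.comp_apply, aeval_X, Sum.elim_inl]
    split_ifs with h1 h2 h2
    · simp [h2]
    · simp [h2]
    · omega
    · simp
  · simp only [kill, AlgHom.comp_apply, aeval_X, Sum.elim_inr]
    split_ifs with h1 h2 h2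
    · simp [h2]
    · simp [h2]
    · omega
    · simp

/-- A chain of primes of the Segre cone. -/
def Q (c d : ℕ) : Ideal (Cone k a b) :=
  RingHom.ker ((kill k a b c d).comp (Cone k a b).val)

instance (c d : ℕ) : (Q k a b c d).IsPrime := RingHom.ker_isPrime _

lemma Q_mono {c c' d d' : ℕ} (hc : c' ≤ c) (hd : d' ≤ d) : Q k a b c d ≤ Q k a b c' d' := by
  intro x hx
  simp only [Q, RingHom.mem_ker, AlgHom.comp_apply] at hx ⊢
  rw [← kill_kill k a b hc hd, AlgHom.comp_apply, hx, map_zero]

lemma coord_X_mem_iff {c d : ℕ} (i : Fin a) (j : Fin b) :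
    coord k a b (X (i, j)) ∈ Q k a b c d ↔ c ≤ i.1 ∨ d ≤ j.1 := by
  simp only [Q, RingHom.mem_ker, AlgHom.comp_apply]
  rw [show (Cone k a b).val (coord k a b (X (i, j))) = segre k a b (X (i, j)) from rfl]
  simp only [segre, kill, map_mul, aeval_X, Sum.elim_inl, Sum.elim_inr, mul_eq_zero]
  constructor
  · rintro (h | h)
    · left; by_contra h'; rw [if_pos (by omega)] at h; exact X_ne_zero _ h
    · right; by_contra h'; rw [if_pos (by omega)] at h; exact X_ne_zero _ h
  · rintro (h | h)
    · left; rw [if_neg (by omega)]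
    · right; rw [if_neg (by omega)]

variable [NeZero a] [NeZero b]

instance : IsNoetherianRing (Cone k a b) :=
  isNoetherianRing_of_surjective _ _ (coord k a b).toRingHom (coord_surjective k a b)

lemma le_height_c : ∀ t, t < a → (t : ℕ∞) ≤ (Q k a b (a - t) b).height
  | 0, _ => by simp
  | t + 1, ht => by
    have hlt : Q k a b (a - t) b < Q k a b (a - (t + 1)) b := by
      refine lt_of_le_of_ne (Q_mono k a b (by omega) le_rfl) fun he => ?_
      have h1 := (coord_X_mem_iff k a b (c := a - (t + 1)) (d := b) ⟨a - (t + 1), by omega⟩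
        ⟨0, Nat.pos_of_ne_zero (NeZero.ne b)⟩).2 (Or.inl le_rfl)
      rw [← he, coord_X_mem_iff] at h1
      have := Nat.pos_of_ne_zero (NeZero.ne b)
      simp only at h1
      omega
    push_cast
    exact le_trans (add_le_add (le_height_c t (by omega)) le_rfl)
      (Ideal.height_add_one_le_of_lt_of_isPrime hlt)

lemma le_height_d : ∀ t, t < b → ((a - 1 + t : ℕ) : ℕ∞) ≤ (Q k a b 1 (b - t)).height
  | 0, _ => by
    have := le_height_c k a b (a - 1) (by have := Nat.pos_of_ne_zero (NeZero.ne a); omega)
    rw [show a - (a - 1) = 1 by have := Nat.pos_of_ne_zero (NeZero.ne a); omega] at this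
    simpa using this
  | t + 1, ht => by
    have hlt : Q k a b 1 (b - t) < Q k a b 1 (b - (t + 1)) := by
      refine lt_of_le_of_ne (Q_mono k a b le_rfl (by omega)) fun he => ?_
      have h1 := (coord_X_mem_iff k a b (c := 1) (d := b - (t + 1))
        ⟨0, Nat.pos_of_ne_zero (NeZero.ne a)⟩ ⟨b - (t + 1), by omega⟩).2 (Or.inr le_rfl)
      rw [← he, coord_X_mem_iff] at h1
      simp only at h1
      omega
    rw [← add_assoc]
    push_cast
    exact le_trans (add_le_add (le_height_d t (by omega)) le_rfl)
      (Ideal.height_add_one_le_of_lt_of_isPrime hlt)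

lemma le_height_vertex : ((a + b - 1 : ℕ) : ℕ∞) ≤ (Q k a b 0 1).height := by
  have ha := Nat.pos_of_ne_zero (NeZero.ne a)
  have hb := Nat.pos_of_ne_zero (NeZero.ne b)
  have h := le_height_d k a b (b - 1) (by omega)
  rw [show b - (b - 1) = 1 by omega] at h
  have hlt : Q k a b 1 1 < Q k a b 0 1 := by
    refine lt_of_le_of_ne (Q_mono k a b (by omega) le_rfl) fun he => ?_
    have h1 := (coord_X_mem_iff k a b (c := 0) (d := 1) ⟨0, ha⟩ ⟨0, hb⟩).2 (Or.inl le_rfl)
    rw [← he, coord_X_mem_iff] at h1
    simp only at h1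
    omega
  rw [show a + b - 1 = a - 1 + (b - 1) + 1 by omega, Nat.cast_add, Nat.cast_one]
  exact le_trans (add_le_add h le_rfl) (Ideal.height_add_one_le_of_lt_of_isPrime hlt)

theorem exists_rankOne [IsAlgClosed k] {n : ℕ} (hn : n + 2 ≤ a + b)
    (c : Fin n → Fin a × Fin b → k) :
    ∃ (u : Fin a → k) (v : Fin b → k), u ≠ 0 ∧ v ≠ 0 ∧
      ∀ l, ∑ ij, c l ij * (u ij.1 * v ij.2) = 0 := by
  classical
  let L : Fin n → MvPolynomial (Fin a × Fin b) k := fun l => ∑ ij, C (c l ij) * X ij
  let gens : Finset (Cone k a b) := Finset.univ.image fun l => coord k a b (L l)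
  have hvx : ∀ ij, coord k a b (X ij) ∈ Q k a b 0 1 := fun ij =>
    (coord_X_mem_iff k a b ij.1 ij.2).2 (Or.inl (Nat.zero_le _))
  have hJm : Ideal.span (gens : Set (Cone k a b)) ≤ Q k a b 0 1 := by
    rw [Ideal.span_le]
    intro x hx
    obtain ⟨l, -, rfl⟩ := Finset.mem_image.1 hx
    simp only [L, map_sum, map_mul]
    exact Ideal.sum_mem _ fun ij _ => Ideal.mul_mem_left _ _ (hvx ij)
  obtain ⟨M, hM, hJM, hMne⟩ : ∃ M : Ideal (Cone k a b), M.IsMaximal ∧
      Ideal.span (gens : Set (Cone k a b)) ≤ M ∧ ∃ ij, coord k a b (X ij) ∉ M := by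
    by_contra hall
    push Not at hall
    haveI : IsJacobsonRing (Cone k a b) :=
      isJacobsonRing_of_surjective ⟨(coord k a b).toRingHom, coord_surjective k a b⟩
    have hle : Q k a b 0 1 ≤ (Ideal.span (gens : Set (Cone k a b))).radical := by
      rw [Ideal.radical_eq_jacobson]
      refine le_sInf fun M hM => fun x hx => ?_
      obtain ⟨hJM, hMmax⟩ := hM
      have hmem := hall M hMmax hJM
      obtain ⟨p, rfl⟩ := coord_surjective k a b x
      have hp : p - C (constantCoeff p) ∈ (Ideal.span (Set.range fun ij => (X ij :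
          MvPolynomial (Fin a × Fin b) k))) := by
        have h1 : p - C (constantCoeff p) ∈ idealOfVars (Fin a × Fin b) k ^ 1 :=
          (mem_pow_idealOfVars_iff _ _).2 fun y hy => by
            rw [Nat.one_le_iff_ne_zero]
            intro hdeg
            obtain rfl : y = 0 := (Finsupp.degree_eq_zero_iff y).1 hdeg
            rw [mem_support_iff, coeff_sub, coeff_zero_C, ← constantCoeff_eq] at hy
            simp at hy
        rwa [pow_one] at h1
      have hsub : ∀ I : Ideal (Cone k a b), (∀ ij, coord k a b (X ij) ∈ I) →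
          coord k a b (p - C (constantCoeff p)) ∈ I := fun I hI => by
        have : Ideal.span (Set.range fun ij => (X ij : MvPolynomial (Fin a × Fin b) k)) ≤
            I.comap (coord k a b) := Ideal.span_le.2 (by rintro _ ⟨ij, rfl⟩; exact hI ij)
        exact this hp
      have h0 : coord k a b (C (constantCoeff p)) ∈ Q k a b 0 1 := by
        have := sub_mem hx (hsub _ hvx)
        rwa [← map_sub, sub_sub_cancel] at this
      have hc : constantCoeff p = 0 := by
        by_contra hne
        exact (Ideal.IsPrime.ne_top (inferInstance : (Q k a b 0 1).IsPrime))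
          (Ideal.eq_top_of_isUnit_mem _ h0 (((isUnit_iff_ne_zero.2 hne).map
            (C : k →+* MvPolynomial (Fin a × Fin b) k)).map (coord k a b)))
      have := hsub M hmem
      rwa [hc, C_0, sub_zero] at this
    have hmin : Q k a b 0 1 ∈ (Ideal.span (gens : Set (Cone k a b))).minimalPrimes := by
      refine ⟨⟨inferInstance, hJm⟩, fun q hq hqm => ?_⟩
      exact hle.trans (hq.1.radical_le_iff.2 hq.2)
    have h1 := (le_height_vertex k a b).trans
      (Ideal.height_le_card_of_mem_minimalPrimes_span_finset hmin)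
    have h2 : gens.card ≤ n := Finset.card_image_le.trans (by simp)
    have h3 := Nat.cast_le.1 h1
    omega
  obtain ⟨⟨i0, j0⟩, hij⟩ := hMne
  have hcomap : (M.comap (coord k a b)).IsMaximal :=
    Ideal.comap_isMaximal_of_surjective _ (coord_surjective k a b)
  obtain ⟨z, hz⟩ := (isMaximal_iff_eq_vanishingIdeal_singleton (K := k)).1 hcomap
  have hmem : ∀ p, coord k a b p ∈ M ↔ aeval z p = 0 := fun p => by
    rw [← mem_vanishingIdeal_singleton_iff, ← hz, Ideal.mem_comap]
  have hz0 : z (i0, j0) ≠ 0 := fun h => hij ((hmem _).2 (by rw [aeval_X, h]))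
  have hrel : ∀ i i' j j', z (i, j) * z (i', j') = z (i, j') * z (i', j) := by
    intro i i' j j'
    have : aeval z (X (i, j) * X (i', j') - X (i, j') * X (i', j) :
        MvPolynomial (Fin a × Fin b) k) = 0 := by
      rw [← hmem]
      have h0 : coord k a b (X (i, j) * X (i', j') - X (i, j') * X (i', j)) = 0 := by
        refine Subtype.ext ?_
        change segre k a b (X (i, j) * X (i', j') - X (i, j') * X (i', j)) = 0
        simp [segre]
        ring
      rw [h0]
      exact M.zero_mem
    simpa [sub_eq_zero] using this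
  refine ⟨fun i => z (i, j0), fun j => z (i0, j) / z (i0, j0),
    fun h => hz0 (congr_fun h i0), fun h => by
      have := congr_fun h j0
      simp [hz0] at this, fun l => ?_⟩
  have hL : aeval z (L l) = 0 := by
    rw [← hmem]
    exact hJM (Ideal.subset_span (Finset.mem_coe.2 (Finset.mem_image.2 ⟨l, Finset.mem_univ l, rfl⟩)))
  simp only [L, map_sum, map_mul, aeval_C, aeval_X, Algebra.algebraMap_self, RingHom.id_apply] at hL
  rw [← hL]
  refine Finset.sum_congr rfl fun ij _ => ?_
  congr 1
  rw [mul_div_assoc', hrel ij.1 i0 j0 ij.2, mul_div_assoc, div_self hz0, mul_one]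

end Groth.Agent.HopfLib
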